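import Mathlib

/-!
A family of flat algebras which is dense on every fibre is dense after every Noetherian base change.
-/

universe u

open TensorProduct

set_option linter.style.haveILetI false

noncomputable section

namespace Groth.Agent.DenseFamily

variable {A₀ B₀ : Type u} [CommRing A₀] [CommRing B₀] [Algebra A₀ B₀] {ι : Type*} {C : ι → Type u}
  [∀ i, CommRing (C i)] [∀ i, Algebra A₀ (C i)] (φ : ∀ i, B₀ →ₐ[A₀] C i)

/-- the family stays jointly injective after tensoring with `M` -/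
def InjOn (M : Type u) [AddCommGroup M] [Module A₀ M] : Prop :=
  ∀ x : M ⊗[A₀] B₀, (∀ i, (φ i).toLinearMap.lTensor M x = 0) → x = 0

variable {φ}

theorem lTensor_rTensor {M N : Type u} [AddCommGroup M] [Module A₀ M] [AddCommGroup N] [Module A₀ N]
    (f : M →ₗ[A₀] N) (i : ι) (x : M ⊗[A₀] B₀) :
    (φ i).toLinearMap.lTensor N (f.rTensor B₀ x) = f.rTensor (C i) ((φ i).toLinearMap.lTensor M x) := by
  rw [← LinearMap.comp_apply, LinearMap.lTensor_comp_rTensor, ← LinearMap.rTensor_comp_lTensor, LinearMap.comp_apply]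

theorem InjOn.of_exact [∀ i, Module.Flat A₀ (C i)] {M' M M'' : Type u} [AddCommGroup M'] [Module A₀ M']
    [AddCommGroup M] [Module A₀ M] [AddCommGroup M''] [Module A₀ M''] (e : M' →ₗ[A₀] M) (g : M →ₗ[A₀] M'')
    (he : Function.Injective e) (hg : Function.Surjective g) (hex : Function.Exact e g) (h' : InjOn φ M')
    (h'' : InjOn φ M'') : InjOn φ M := by
  intro x hx
  have h1 : g.rTensor B₀ x = 0 := h'' _ fun i => by
    rw [lTensor_rTensor, hx i, map_zero]
  obtain ⟨y, rfl⟩ := ((rTensor_exact B₀ hex hg) x).mp h1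
  suffices h : y = 0 by rw [h, map_zero]
  refine h' y fun i => ?_
  apply Module.Flat.rTensor_preserves_injective_linearMap (M := C i) e he
  rw [map_zero, ← lTensor_rTensor]
  exact hx i

theorem InjOn.of_vectorSpace {K M : Type u} [Field K] [Algebra A₀ K] [AddCommGroup M] [Module A₀ M] [Module K M]
    [IsScalarTower A₀ K M] (h : InjOn φ K) : InjOn φ M := by
  classical
  intro x hx
  let b := Module.Basis.ofVectorSpace K M
  let e := b.repr.restrictScalars A₀
  have h1 : e.toLinearMap.rTensor B₀ x = 0 := by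
    apply (TensorProduct.finsuppLeft A₀ A₀ K B₀ _).injective
    ext j
    rw [TensorProduct.finsuppLeft_apply, map_zero, Finsupp.zero_apply]
    refine h _ fun i => ?_
    rw [lTensor_rTensor, lTensor_rTensor, hx i, map_zero, map_zero]
  refine (LinearEquiv.rTensor B₀ e).injective ?_
  rw [map_zero]
  exact h1

/-- from one field to the infinitesimal neighbourhoods of a point over it -/
theorem injOn_quotient_pow [∀ i, Module.Flat A₀ (C i)] {R K : Type u} [CommRing R] [Algebra A₀ R] (m : Ideal R)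
    [Field K] [Algebra A₀ K] (hKinj : InjOn φ K) (ψ : K →+* R ⧸ m)
    (hψ : ψ.comp (algebraMap A₀ K) = algebraMap A₀ (R ⧸ m)) (k : ℕ) : InjOn φ (R ⧸ m ^ k) := by
  induction k with
  | zero =>
    haveI : Subsingleton (R ⧸ m ^ 0) := Ideal.Quotient.subsingleton_iff.mpr (by simp)
    intro x _
    exact Subsingleton.elim _ _
  | succ k ih =>
    let g : (R ⧸ m ^ (k + 1)) →ₗ[R] (R ⧸ m ^ k) := Submodule.factor (Ideal.pow_le_pow_right (Nat.le_succ k))
    let N : Submodule R (R ⧸ m ^ (k + 1)) := LinearMap.ker g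
    have htors : Module.IsTorsionBySet R N (m : Set R) := by
      rintro ⟨x, hx⟩ ⟨r, hr⟩
      obtain ⟨x, rfl⟩ := Submodule.Quotient.mk_surjective _ x
      have hx' : x ∈ m ^ k := (Submodule.Quotient.mk_eq_zero _).mp (LinearMap.mem_ker.mp hx)
      apply Subtype.ext
      show r • Submodule.Quotient.mk x = 0
      rw [← Submodule.Quotient.mk_smul, Submodule.Quotient.mk_eq_zero, pow_succ']
      exact Ideal.mul_mem_mul hr hx'
    letI : Module (R ⧸ m) N := htors.module
    letI : Module K N := Module.compHom _ ψ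
    haveI : IsScalarTower A₀ K N := IsScalarTower.of_algebraMap_smul fun a x => by
      show ψ (algebraMap A₀ K a) • x = a • x
      rw [← RingHom.comp_apply, hψ]
      refine (Module.IsTorsionBySet.mk_smul htors (algebraMap A₀ R a) x).trans ?_
      refine Subtype.ext ?_
      rw [Submodule.coe_smul, algebraMap_smul, Submodule.coe_smul_of_tower]
    refine InjOn.of_exact (φ := φ) (N.subtype.restrictScalars A₀) (g.restrictScalars A₀) ?_ ?_ ?_
      (InjOn.of_vectorSpace hKinj) ih
    · exact Subtype.val_injective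
    · intro y
      obtain ⟨y, rfl⟩ := Submodule.Quotient.mk_surjective _ y
      exact ⟨Submodule.Quotient.mk y, rfl⟩
    · exact LinearMap.exact_subtype_ker_map g

/-- jointly injective on every fibre implies jointly injective on a Noetherian algebra -/
theorem eq_zero_of_fibres [∀ i, Module.Flat A₀ (C i)] [Algebra.FiniteType A₀ B₀] {A : Type u} [CommRing A]
    [Algebra A₀ A] [IsNoetherianRing A]
    (hK : ∀ (p : Ideal A) [p.IsPrime], ∃ (K : Type u) (_ : Field K) (_ : Algebra A₀ K) (ψ : K →+* p.ResidueField),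
      ψ.comp (algebraMap A₀ K) = algebraMap A₀ p.ResidueField ∧ InjOn φ K)
    (b : A ⊗[A₀] B₀) (hb : ∀ i, (φ i).toLinearMap.lTensor A b = 0) : b = 0 := by
  classical
  haveI : IsNoetherianRing (A ⊗[A₀] B₀) := Algebra.FiniteType.isNoetherianRing A (A ⊗[A₀] B₀)
  let N : Ideal (A ⊗[A₀] B₀) := LinearMap.ker (LinearMap.toSpanSingleton (A ⊗[A₀] B₀) (A ⊗[A₀] B₀) b)
  have hN : ∀ t, t ∈ N ↔ t * b = 0 := fun t => by simp [N]
  by_cases htop : N = ⊤
  · simpa using (hN 1).mp (htop ▸ Submodule.mem_top)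
  exfalso
  obtain ⟨Q, hQ, hNQ⟩ := Ideal.exists_le_maximal N htop
  haveI := hQ.isPrime
  let p : Ideal A := Q.comap (algebraMap A (A ⊗[A₀] B₀))
  obtain ⟨K, _, _, ψ, hψ, hKinj⟩ := hK p
  let R := Localization.AtPrime p
  let m := IsLocalRing.maximalIdeal R
  have key : ∀ k : ℕ, InjOn φ (R ⧸ m ^ k) := fun k => injOn_quotient_pow m hKinj ψ hψ k
  let T := Localization.AtPrime Q
  have hn : ∀ k, algebraMap (A ⊗[A₀] B₀) T b ∈ IsLocalRing.maximalIdeal T ^ k := by
    intro k
    let f₁ : A →ₐ[A₀] R ⧸ m ^ k := IsScalarTower.toAlgHom A₀ A _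
    have hx : f₁.toLinearMap.rTensor B₀ b = 0 := key k _ fun i => by
      rw [lTensor_rTensor, hb i, map_zero]
    let h₀ : R →+* T := Localization.localRingHom p Q (algebraMap A (A ⊗[A₀] B₀)) rfl
    have hle : m ^ k ≤ (IsLocalRing.maximalIdeal T ^ k).comap h₀ := by
      refine le_trans (Ideal.pow_right_mono ?_ k) (Ideal.le_comap_pow h₀ k)
      intro r hr
      haveI : IsLocalHom h₀ := Localization.isLocalHom_localRingHom p Q _ rfl
      exact fun hu => hr (isUnit_of_map_unit h₀ r hu)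
    let h₁ : R ⧸ m ^ k →+* T ⧸ IsLocalRing.maximalIdeal T ^ k := Ideal.quotientMap _ h₀ hle
    let L₁ : (R ⧸ m ^ k) →ₐ[A₀] T ⧸ IsLocalRing.maximalIdeal T ^ k :=
      { h₁ with
        commutes' := fun a => by
          show h₁ (Ideal.Quotient.mk _ (algebraMap A₀ R a)) = _
          rw [Ideal.quotientMap_mk, IsScalarTower.algebraMap_apply A₀ A R, Localization.localRingHom_to_map,
            ← IsScalarTower.algebraMap_apply A₀ A (A ⊗[A₀] B₀), ← IsScalarTower.algebraMap_apply A₀ (A ⊗[A₀] B₀) T]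
          rfl }
    let L₂ : B₀ →ₐ[A₀] T ⧸ IsLocalRing.maximalIdeal T ^ k :=
      ((Ideal.Quotient.mkₐ A₀ _).comp (IsScalarTower.toAlgHom A₀ (A ⊗[A₀] B₀) T)).comp Algebra.TensorProduct.includeRight
    let L : (R ⧸ m ^ k) ⊗[A₀] B₀ →ₐ[A₀] T ⧸ IsLocalRing.maximalIdeal T ^ k :=
      Algebra.TensorProduct.lift L₁ L₂ fun a c => by exact mul_comm (L₁ a) (L₂ c)
    have hL : ∀ z : A ⊗[A₀] B₀, L (f₁.toLinearMap.rTensor B₀ z) = Ideal.Quotient.mk _ (algebraMap _ T z) := by
      intro z
      induction z with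
      | zero => simp
      | add z w hz hw => simp [hz, hw]
      | tmul a c =>
        show h₁ (Ideal.Quotient.mk _ (algebraMap A R a)) * Ideal.Quotient.mk _ (algebraMap (A ⊗[A₀] B₀) T ((1 : A) ⊗ₜ[A₀] c)) = _
        rw [Ideal.quotientMap_mk, Localization.localRingHom_to_map, ← map_mul, ← map_mul,
          Algebra.TensorProduct.algebraMap_apply, Algebra.TensorProduct.tmul_mul_tmul]
        simp only [Algebra.algebraMap_self, RingHom.id_apply, mul_one, _root_.one_mul]
        rfl
    rw [← Ideal.Quotient.eq_zero_iff_mem, ← hL, hx, map_zero]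
  have hzero : algebraMap (A ⊗[A₀] B₀) T b = 0 := by
    have h := Ideal.iInf_pow_eq_bot_of_isLocalRing (IsLocalRing.maximalIdeal T) (Ideal.IsMaximal.ne_top inferInstance)
    rw [← Submodule.mem_bot T, ← h, Submodule.mem_iInf]
    exact hn
  obtain ⟨⟨s, hs⟩, hsb⟩ := (IsLocalization.map_eq_zero_iff Q.primeCompl T b).mp hzero
  exact hs (hNQ ((hN s).mpr hsb))

end Groth.Agent.DenseFamily
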