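import Groth.Agent.DenseFamily.Alg
import Groth.Agent.EssFree.Apps
import Groth.Agent.FactLocus.Basic
import Groth.Prelude.Def_MoreMor

/-!
Schematic density on the fibres of a family of flat schemes mapping to a scheme: the points at which the
whole scheme is sent into a closed subscheme are those at which every member of the family is.
-/

universe u

open CategoryTheory Limits MonoidalCategory CartesianMonoidalCategory AlgebraicGeometry
open scoped TensorProduct

set_option backward.isDefEq.respectTransparency false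
set_option linter.style.haveILetI false

noncomputable section

namespace Groth.Agent.DenseFamily

/-- the chart of a pullback given by an affine piece of each factor -/
theorem exists_chart {S X : Scheme.{u}} {h : X ⟶ S} {A₀ B₀ K : Type u} [CommRing A₀] [CommRing B₀] [CommRing K]
    [Algebra A₀ B₀] [Algebra A₀ K] (v : Spec (CommRingCat.of A₀) ⟶ S) [Mono v]
    (o : Spec (CommRingCat.of B₀) ⟶ X) [IsOpenImmersion o]
    (ho : o ≫ h = Spec.map (CommRingCat.ofHom (algebraMap A₀ B₀)) ≫ v) (g : Spec (CommRingCat.of K) ⟶ S)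
    (hg : g = Spec.map (CommRingCat.ofHom (algebraMap A₀ K)) ≫ v) :
    ∃ ρ : Spec (CommRingCat.of (K ⊗[A₀] B₀)) ⟶ pullback h g, IsOpenImmersion ρ ∧
      ρ ≫ pullback.snd h g = Spec.map (CommRingCat.ofHom (algebraMap K (K ⊗[A₀] B₀))) ∧
      ρ ≫ pullback.fst h g =
        Spec.map (CommRingCat.ofHom (Algebra.TensorProduct.includeRight : B₀ →ₐ[A₀] K ⊗[A₀] B₀).toRingHom) ≫ o ∧
      ∀ z, pullback.fst h g z ∈ Set.range o → z ∈ Set.range ρ := by
  let k := Spec.map (CommRingCat.ofHom (algebraMap A₀ K))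
  let iL := Spec.map (CommRingCat.ofHom (Algebra.TensorProduct.includeLeftRingHom : K →+* K ⊗[A₀] B₀))
  let iR := Spec.map (CommRingCat.ofHom (Algebra.TensorProduct.includeRight : B₀ →ₐ[A₀] K ⊗[A₀] B₀).toRingHom)
  have hsq : IsPullback iR iL (Spec.map (CommRingCat.ofHom (algebraMap A₀ B₀))) k :=
    (isPullback_SpecMap_of_isPushout _ _ _ _ (CommRingCat.isPushout_tensorProduct A₀ K B₀)).flip
  have hmono : IsPullback k (𝟙 _) v g := IsPullback.of_vert_isIso_mono ⟨by rw [Category.id_comp, hg]⟩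
  have hout : IsPullback iR iL (o ≫ h) g := by
    have := hsq.paste_vert hmono
    rwa [Category.comp_id, ← ho] at this
  let ρ : Spec (CommRingCat.of (K ⊗[A₀] B₀)) ⟶ pullback h g :=
    pullback.lift (iR ≫ o) iL (by rw [Category.assoc]; exact hout.w)
  have hρ : IsPullback iR ρ o (pullback.fst h g) :=
    IsPullback.of_bot (by rw [pullback.lift_snd]; exact hout) (pullback.lift_fst _ _ _).symm
      (IsPullback.of_hasPullback h g)
  refine ⟨ρ, MorphismProperty.of_isPullback (P := @IsOpenImmersion) hρ inferInstance, pullback.lift_snd _ _ _,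
    pullback.lift_fst _ _ _, ?_⟩
  rintro z ⟨b, hb⟩
  obtain ⟨q, -, hq⟩ := Scheme.exists_preimage_of_isPullback hρ b z hb
  exact ⟨q, hq⟩

variable {ι : Type*} {S X : Scheme.{u}} {h : X ⟶ S} {Zs : ι → Scheme.{u}}

/-- the family is schematically dense in every fibre -/
def FibreDense (h : X ⟶ S) (j : ∀ n, Zs n ⟶ X) : Prop :=
  ∀ (s : S) (V : (h.fiber s).Opens) (t : Γ(h.fiber s, V)),
    (∀ n, (MoreMor.fiberMap (j n) h s).app V t = 0) → t = 0

/-- on affine charts density gives joint injectivity over the residue fields -/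
theorem injOn_residueField {j : ∀ n, Zs n ⟶ X} (hb : FibreDense h j) {A₀ B₀ : Type u} [CommRing A₀] [CommRing B₀]
    [Algebra A₀ B₀] (v : Spec (CommRingCat.of A₀) ⟶ S) [Mono v] (o : Spec (CommRingCat.of B₀) ⟶ X) [IsOpenImmersion o]
    (ho : o ≫ h = Spec.map (CommRingCat.ofHom (algebraMap A₀ B₀)) ≫ v) {J : Type*} {C : J → Type u}
    [∀ i, CommRing (C i)] [∀ i, Algebra A₀ (C i)] (φ : ∀ i, B₀ →ₐ[A₀] C i) (idx : J → ι)
    (w : ∀ i, Spec (CommRingCat.of (C i)) ⟶ Zs (idx i)) [∀ i, IsOpenImmersion (w i)]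
    (hw : ∀ i, w i ≫ j (idx i) = Spec.map (CommRingCat.ofHom (φ i).toRingHom) ≫ o)
    (hcov : ∀ n (z : Zs n), j n z ∈ Set.range o → ∃ (i : J) (e : idx i = n), z ∈ Set.range (w i ≫ eqToHom (congrArg Zs e)))
    (s : S) [Algebra A₀ (S.residueField s)]
    (hs : S.fromSpecResidueField s = Spec.map (CommRingCat.ofHom (algebraMap A₀ (S.residueField s))) ≫ v) :
    InjOn φ (S.residueField s) := by
  intro x hx
  obtain ⟨ρ, hρ, hρ2, hρ1, hρr⟩ := exists_chart (h := h) (K := ↑(S.residueField s)) v o ho (S.fromSpecResidueField s) hs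
  haveI := hρ
  let K := S.residueField s
  let F := h.fiber s
  let ρF : Spec (CommRingCat.of (K ⊗[A₀] B₀)) ⟶ F := ρ
  let W₀ : F.Opens := ρF.opensRange
  have hW₀ : (⊤ : (Spec (CommRingCat.of (K ⊗[A₀] B₀))).Opens) ≤ ρF ⁻¹ᵁ W₀ := fun a _ => ⟨a, rfl⟩
  haveI : IsIso (ρF.appLE W₀ ⊤ hW₀) := by
    rw [Scheme.Hom.appLE]
    haveI : IsIso (ρF.app W₀) := ρF.isIso_app W₀ le_rfl
    haveI : IsIso ((Spec (CommRingCat.of (K ⊗[A₀] B₀))).presheaf.map (homOfLE hW₀).op) := by
      haveI : IsIso (homOfLE hW₀) := ⟨homOfLE le_top, Subsingleton.elim _ _, Subsingleton.elim _ _⟩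
      infer_instance
    infer_instance
  obtain ⟨t, ht⟩ := (ConcreteCategory.bijective_of_isIso (ρF.appLE W₀ ⊤ hW₀)).2
    ((Scheme.ΓSpecIso (CommRingCat.of (K ⊗[A₀] B₀))).inv x)
  suffices ht0 : t = 0 by
    have : (Scheme.ΓSpecIso (CommRingCat.of (K ⊗[A₀] B₀))).inv x = 0 := by rw [← ht, ht0, map_zero]
    exact (ConcreteCategory.bijective_of_isIso (Scheme.ΓSpecIso (CommRingCat.of (K ⊗[A₀] B₀))).inv).1
      (this.trans (map_zero _).symm)
  refine hb s W₀ t fun n => ?_
  let m := MoreMor.fiberMap (j n) h s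
  let P := (j n ≫ h).fiber s
  have key : ∀ z : (m ⁻¹ᵁ W₀ : P.Opens), ∃ (O : P.Opens) (hO : O ≤ m ⁻¹ᵁ W₀), z.1 ∈ O ∧
      P.presheaf.map (homOfLE hO).op (m.app W₀ t) = 0 := by
    rintro ⟨z, hz⟩
    have hzo : j n (pullback.fst (j n ≫ h) (S.fromSpecResidueField s) z) ∈ Set.range o := by
      obtain ⟨a, ha⟩ := hz
      rw [← Scheme.Hom.comp_apply]
      have e : m ≫ pullback.fst h (S.fromSpecResidueField s) =
          pullback.fst (j n ≫ h) (S.fromSpecResidueField s) ≫ j n := pullback.lift_fst _ _ _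
      refine ⟨Spec.map (CommRingCat.ofHom (Algebra.TensorProduct.includeRight : B₀ →ₐ[A₀] K ⊗[A₀] B₀).toRingHom) a, ?_⟩
      rw [← Scheme.Hom.comp_apply, ← hρ1, Scheme.Hom.comp_apply, ← e, Scheme.Hom.comp_apply]
      exact congrArg _ ha
    obtain ⟨i, rfl, hzw⟩ := hcov n _ hzo
    simp only [eqToHom_refl, Category.comp_id] at hzw
    obtain ⟨σ, hσ, hσ2, hσ1, hσr⟩ := exists_chart (h := j (idx i) ≫ h) (K := ↑(S.residueField s)) v (w i)
      (by rw [reassoc_of% hw i, ho, ← Spec.map_comp_assoc, ← CommRingCat.ofHom_comp]; congr 3; exact (φ i).comp_algebraMap)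
      (S.fromSpecResidueField s) hs
    haveI := hσ
    let σP : Spec (CommRingCat.of (K ⊗[A₀] C i)) ⟶ P := σ
    let φK : K ⊗[A₀] B₀ →ₐ[K] K ⊗[A₀] C i := Algebra.TensorProduct.map (AlgHom.id K K) (φ i)
    have hφK : φK x = 0 := by
      have e : ∀ y : K ⊗[A₀] B₀, φK y = (φ i).toLinearMap.lTensor K y := fun y => by
        induction y with
        | zero => simp
        | add a b ha hb => simp [ha, hb]
        | tmul a b => simp [φK]
      rw [e, hx i]
    have hcomm : σP ≫ m = Spec.map (CommRingCat.ofHom φK.toRingHom) ≫ ρF := by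
      apply pullback.hom_ext
      · show (σ ≫ MoreMor.fiberMap _ _ _) ≫ pullback.fst h _ = (_ ≫ ρ) ≫ pullback.fst h _
        rw [Category.assoc, Category.assoc, hρ1]
        show σ ≫ pullback.lift _ _ _ ≫ pullback.fst h _ = _
        rw [pullback.lift_fst]
        show σ ≫ pullback.fst _ _ ≫ j (idx i) = _
        rw [reassoc_of% hσ1, hw i, ← Spec.map_comp_assoc, ← Spec.map_comp_assoc, ← CommRingCat.ofHom_comp,
          ← CommRingCat.ofHom_comp]
        congr 3
      · show (σ ≫ MoreMor.fiberMap _ _ _) ≫ pullback.snd h _ = (_ ≫ ρ) ≫ pullback.snd h _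
        rw [Category.assoc, Category.assoc, hρ2]
        show σ ≫ pullback.lift _ _ _ ≫ pullback.snd h _ = _
        rw [pullback.lift_snd]
        show σ ≫ pullback.snd _ _ = _
        rw [hσ2, ← Spec.map_comp, ← CommRingCat.ofHom_comp]
        congr 2
        exact φK.comp_algebraMap.symm
    let O : P.Opens := σP.opensRange
    have hO : O ≤ m ⁻¹ᵁ W₀ := by
      rintro _ ⟨a, rfl⟩
      refine ⟨Spec.map (CommRingCat.ofHom φK.toRingHom) a, ?_⟩
      show ρF _ = m (σP a)
      rw [← Scheme.Hom.comp_apply, ← hcomm]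
      rfl
    refine ⟨O, hO, hσr _ hzw, ?_⟩
    have hO' : (⊤ : (Spec (CommRingCat.of (K ⊗[A₀] C i))).Opens) ≤ σP ⁻¹ᵁ O := fun a _ => ⟨a, rfl⟩
    haveI : IsIso (σP.appLE O ⊤ hO') := by
      rw [Scheme.Hom.appLE]
      haveI : IsIso (σP.app O) := σP.isIso_app O le_rfl
      haveI : IsIso ((Spec (CommRingCat.of (K ⊗[A₀] C i))).presheaf.map (homOfLE hO').op) := by
        haveI : IsIso (homOfLE hO') := ⟨homOfLE le_top, Subsingleton.elim _ _, Subsingleton.elim _ _⟩
        infer_instance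
      infer_instance
    apply (ConcreteCategory.bijective_of_isIso (σP.appLE O ⊤ hO')).1
    rw [map_zero]
    have e1 : m.app W₀ ≫ P.presheaf.map (homOfLE hO).op ≫ σP.appLE O ⊤ hO' =
        ρF.appLE W₀ ⊤ hW₀ ≫ (Spec.map (CommRingCat.ofHom φK.toRingHom)).appTop := by
      rw [Scheme.Hom.map_appLE, Scheme.Hom.app_eq_appLE, Scheme.Hom.appLE_comp_appLE]
      simp only [hcomm]
      rw [Scheme.Hom.appTop, Scheme.Hom.app_eq_appLE, Scheme.Hom.appLE_comp_appLE]
      rfl
    have e2 := congrArg (fun f => f.hom t) e1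
    simp only [CommRingCat.hom_comp, RingHom.comp_apply] at e2
    refine e2.trans ?_
    rw [show (ρF.appLE W₀ ⊤ hW₀).hom t = _ from ht]
    have e3 := congrArg (fun f => f.hom x) (Scheme.ΓSpecIso_inv_naturality (CommRingCat.ofHom φK.toRingHom))
    simp only [CommRingCat.hom_comp, RingHom.comp_apply] at e3
    refine e3.symm.trans ?_
    show (Scheme.ΓSpecIso (CommRingCat.of (K ⊗[A₀] C i))).inv.hom (φK x) = 0
    rw [hφK, map_zero]
  choose O hO hzO hres using key
  refine TopCat.Sheaf.eq_of_locally_eq' P.sheaf O (m ⁻¹ᵁ W₀) (fun z => homOfLE (hO z))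
    (fun z hz => TopologicalSpace.Opens.mem_iSup.mpr ⟨⟨z, hz⟩, hzO ⟨z, hz⟩⟩) _ _ fun z => ?_
  rw [map_zero]
  exact hres z

end Groth.Agent.DenseFamily
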