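import Groth.Agent.DenseFamily.Geom

/-!
A closed condition satisfied by every member of a fibrewise schematically dense family of flat schemes is
satisfied by the whole scheme, over a locally Noetherian base.
-/

universe u

open CategoryTheory Limits MonoidalCategory CartesianMonoidalCategory AlgebraicGeometry
open scoped TensorProduct

set_option backward.isDefEq.respectTransparency false
set_option linter.style.haveILetI false

noncomputable section

namespace Groth.Agent.DenseFamily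

variable {S : Scheme.{u}} {H G W Y : Over S} {ι : Type*} {Z : ι → Over S}

theorem factor_of_family [LocallyOfFiniteType H.hom] [IsLocallyNoetherian G.left] [∀ n, Flat (Z n).hom]
    (j : ∀ n, Z n ⟶ H) (hb : FibreDense H.hom fun n => (j n).left) (Φ : H ⊗ G ⟶ W) (y : Y ⟶ W)
    [IsClosedImmersion y.left]
    (hfac : ∀ (n : ι) (S'' : Over S) (s : S'' ⟶ G) (x : S'' ⟶ Z n),
      ∃ x' : S'' ⟶ Y, x' ≫ y = lift (x ≫ j n) s ≫ Φ) :
    ∃ l : H ⊗ G ⟶ Y, l ≫ y = Φ := by
  suffices h : ∃ l, l ≫ y.left = Φ.left by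
    obtain ⟨l, hl⟩ := h
    exact ⟨Over.homMk l (by rw [← Over.w y, reassoc_of% hl, Over.w Φ]), Over.OverMorphism.ext hl⟩
  let P := pullback H.hom G.hom
  have key : ∀ p : P, ∃ (R : CommRingCat.{u}) (ρ : Spec R ⟶ P),
      IsOpenImmersion ρ ∧ p ∈ Set.range ρ ∧ ∃ ψ, ψ ≫ y.left = ρ ≫ Φ.left := by
    intro p
    obtain ⟨_, ⟨U, hU, rfl⟩, hpU, -⟩ := S.isBasis_affineOpens.exists_subset_of_mem_open
      (Set.mem_univ (H.hom (pullback.fst H.hom G.hom p))) isOpen_univ
    obtain ⟨_, ⟨V, hV, rfl⟩, hpV, hVU⟩ := H.left.isBasis_affineOpens.exists_subset_of_mem_open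
      (show pullback.fst H.hom G.hom p ∈ H.hom ⁻¹ᵁ U from hpU) (H.hom ⁻¹ᵁ U).isOpen
    have hpG : pullback.snd H.hom G.hom p ∈ G.hom ⁻¹ᵁ U := by
      show G.hom _ ∈ U
      rw [← Scheme.Hom.comp_apply, ← pullback.condition]
      exact hpU
    obtain ⟨_, ⟨T, hT, rfl⟩, hpT, hTU⟩ := G.left.isBasis_affineOpens.exists_subset_of_mem_open hpG
      (G.hom ⁻¹ᵁ U).isOpen
    letI : Algebra Γ(S, U) Γ(H.left, V) := (H.hom.appLE U V hVU).hom.toAlgebra
    letI : Algebra Γ(S, U) Γ(G.left, T) := (G.hom.appLE U T hTU).hom.toAlgebra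
    haveI : Algebra.FiniteType Γ(S, U) Γ(H.left, V) := H.hom.finiteType_appLE hU hV hVU
    haveI : IsNoetherianRing Γ(G.left, T) := IsLocallyNoetherian.component_noetherian ⟨T, hT⟩
    let v : Spec (CommRingCat.of Γ(S, U)) ⟶ S := hU.fromSpec
    let o : Spec (CommRingCat.of Γ(H.left, V)) ⟶ H.left := hV.fromSpec
    let o' : Spec (CommRingCat.of Γ(G.left, T)) ⟶ G.left := hT.fromSpec
    haveI : IsOpenImmersion o := inferInstanceAs (IsOpenImmersion hV.fromSpec)
    haveI : IsOpenImmersion o' := inferInstanceAs (IsOpenImmersion hT.fromSpec)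
    haveI : Mono v := inferInstanceAs (Mono hU.fromSpec)
    have ho : o ≫ H.hom = Spec.map (CommRingCat.ofHom (algebraMap Γ(S, U) Γ(H.left, V))) ≫ v :=
      (IsAffineOpen.SpecMap_appLE_fromSpec H.hom hU hV hVU).symm
    have hg : o' ≫ G.hom = Spec.map (CommRingCat.ofHom (algebraMap Γ(S, U) Γ(G.left, T))) ≫ v :=
      (IsAffineOpen.SpecMap_appLE_fromSpec G.hom hU hT hTU).symm
    obtain ⟨ρA, hρA, hρA2, hρA1, hρAr⟩ := exists_chart (h := H.hom) v o ho (o' ≫ G.hom) hg
    haveI := hρA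
    let m : pullback H.hom (o' ≫ G.hom) ⟶ P := pullback.map _ _ _ _ (𝟙 _) o' (𝟙 _) (by simp) (by simp)
    have hm : IsPullback m (pullback.snd H.hom (o' ≫ G.hom)) (pullback.snd H.hom G.hom) o' := by
      refine IsPullback.of_right ?_ (by simp [m]) (IsPullback.of_hasPullback H.hom G.hom)
      simpa [m] using IsPullback.of_hasPullback H.hom (o' ≫ G.hom)
    haveI : IsOpenImmersion m := MorphismProperty.of_isPullback (P := @IsOpenImmersion) hm.flip inferInstance
    refine ⟨_, ρA ≫ m, inferInstance, ?_, ?_⟩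
    · obtain ⟨b, hb'⟩ : pullback.snd H.hom G.hom p ∈ Set.range o' := by
        rw [show Set.range o' = T from hT.range_fromSpec]; exact hpT
      obtain ⟨z, -, hz⟩ := Scheme.exists_preimage_of_isPullback hm.flip b p hb'
      obtain ⟨a, ha⟩ := hρAr z (by
        rw [show Set.range o = V from hV.range_fromSpec, show pullback.fst H.hom (o' ≫ G.hom) =
          m ≫ pullback.fst H.hom G.hom by simp [m], Scheme.Hom.comp_apply, hz]
        exact hpV)
      exact ⟨a, by rw [Scheme.Hom.comp_apply, ha, hz]⟩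
    obtain ⟨I, -, hI⟩ := FactLocus.exists_ker_criterion (pullback.snd y.left ((ρA ≫ m) ≫ Φ.left))
    suffices h : I ≤ RingHom.ker (RingHom.id (Γ(G.left, T) ⊗[Γ(S, U)] Γ(H.left, V))) by
      obtain ⟨ψ, hψ⟩ := (hI _ (RingHom.id _)).mpr h
      refine ⟨ψ ≫ pullback.fst _ _, ?_⟩
      rw [Category.assoc, pullback.condition, reassoc_of% hψ]
      simp
    let J := Σ n, {X : (Z n).left.affineOpens // X.1 ≤ (j n).left ⁻¹ᵁ V}
    let C : J → Type u := fun i => Γ((Z i.1).left, i.2.1)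
    letI : ∀ i : J, CommRing (C i) := fun i => inferInstanceAs (CommRing Γ((Z i.1).left, i.2.1))
    letI : ∀ i : J, Algebra Γ(S, U) (C i) := fun i =>
      (((j i.1).left.appLE V i.2.1 i.2.2).hom.comp (algebraMap Γ(S, U) Γ(H.left, V))).toAlgebra
    let φ : ∀ i : J, Γ(H.left, V) →ₐ[Γ(S, U)] C i := fun i =>
      { ((j i.1).left.appLE V i.2.1 i.2.2).hom with commutes' := fun _ => rfl }
    haveI : ∀ i : J, Module.Flat Γ(S, U) (C i) := fun i => by
      refine RingHom.flat_algebraMap_iff.mp ?_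
      show (H.hom.appLE U V hVU ≫ (j i.1).left.appLE V i.2.1 i.2.2).hom.Flat
      rw [Scheme.Hom.appLE_comp_appLE]
      simp only [Over.w (j i.1)]
      exact (Z i.1).hom.flat_appLE hU i.2.1.2 _
    let w : ∀ i : J, Spec (CommRingCat.of (C i)) ⟶ (Z i.1).left := fun i => i.2.1.2.fromSpec
    haveI : ∀ i : J, IsOpenImmersion (w i) := fun i => inferInstanceAs (IsOpenImmersion i.2.1.2.fromSpec)
    have hw : ∀ i : J, w i ≫ (j i.1).left = Spec.map (CommRingCat.ofHom (φ i).toRingHom) ≫ o := fun i =>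
      (IsAffineOpen.SpecMap_appLE_fromSpec (j i.1).left hV i.2.1.2 i.2.2).symm
    intro b hbI
    refine eq_zero_of_fibres (φ := φ) (fun q _ => ?_) b fun i => ?_
    · let f : Spec (CommRingCat.of q.ResidueField) ⟶ S :=
        Spec.map (CommRingCat.ofHom (algebraMap Γ(S, U) q.ResidueField)) ≫ v
      let e := Scheme.SpecToEquivOfField q.ResidueField S f
      have he : Spec.map e.2 ≫ S.fromSpecResidueField e.1 = f :=
        (Scheme.SpecToEquivOfField q.ResidueField S).symm_apply_apply f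
      have hsr : Set.range (S.fromSpecResidueField e.1) ⊆ Set.range hU.fromSpec := by
        rw [Scheme.range_fromSpecResidueField, Set.singleton_subset_iff]
        exact ⟨_, rfl⟩
      let κ := Spec.preimage (IsOpenImmersion.lift hU.fromSpec (S.fromSpecResidueField e.1) hsr)
      letI : Algebra Γ(S, U) (S.residueField e.1) := κ.hom.toAlgebra
      have hκ : S.fromSpecResidueField e.1 =
          Spec.map (CommRingCat.ofHom (algebraMap Γ(S, U) (S.residueField e.1))) ≫ v := by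
        show _ = Spec.map κ ≫ hU.fromSpec
        rw [Spec.map_preimage, IsOpenImmersion.lift_fac]
      refine ⟨S.residueField e.1, inferInstance, inferInstance, e.2.hom, ?_, ?_⟩
      · have h : Spec.map (CommRingCat.ofHom (algebraMap Γ(S, U) (S.residueField e.1)) ≫ e.2) =
            Spec.map (CommRingCat.ofHom (algebraMap Γ(S, U) q.ResidueField)) := by
          rw [← cancel_mono v, Spec.map_comp, Category.assoc, ← hκ, he]
        exact congrArg (fun g => g.hom) (Spec.map_injective h)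
      · refine injOn_residueField hb v o ho φ Sigma.fst w hw (fun n z hz => ?_) e.1 hκ
        obtain ⟨_, ⟨X, hX, rfl⟩, hzX, hXV⟩ := (Z n).left.isBasis_affineOpens.exists_subset_of_mem_open
          (show z ∈ (j n).left ⁻¹ᵁ V from (show Set.range o = V from hV.range_fromSpec).le hz)
          ((j n).left ⁻¹ᵁ V).isOpen
        refine ⟨⟨n, ⟨⟨X, hX⟩, hXV⟩⟩, rfl, ?_⟩
        simp only [eqToHom_refl, Category.comp_id]
        exact hX.range_fromSpec.ge hzX
    · let φA : Γ(G.left, T) ⊗[Γ(S, U)] Γ(H.left, V) →ₐ[Γ(G.left, T)] Γ(G.left, T) ⊗[Γ(S, U)] C i :=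
        Algebra.TensorProduct.map (AlgHom.id _ _) (φ i)
      have hlT : ∀ z, φA z = (φ i).toLinearMap.lTensor Γ(G.left, T) z := fun z => by
        induction z with
        | zero => simp
        | add a c ha hc => simp [ha, hc]
        | tmul a c => simp [φA]
      rw [← hlT]
      refine (hI (Γ(G.left, T) ⊗[Γ(S, U)] C i) φA.toRingHom).mp ?_ hbI
      let iL := Spec.map (CommRingCat.ofHom (algebraMap Γ(G.left, T) (Γ(G.left, T) ⊗[Γ(S, U)] C i)))
      let iR := Spec.map (CommRingCat.ofHom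
        (Algebra.TensorProduct.includeRight : C i →ₐ[Γ(S, U)] Γ(G.left, T) ⊗[Γ(S, U)] C i).toRingHom)
      let S'' : Over S := Over.mk (iL ≫ o' ≫ G.hom)
      let s : S'' ⟶ G := Over.homMk (iL ≫ o') (Category.assoc _ _ _)
      let x : S'' ⟶ Z i.1 := Over.homMk (iR ≫ w i) (by
        show (iR ≫ w i) ≫ (Z i.1).hom = iL ≫ o' ≫ G.hom
        rw [← Over.w (j i.1), Category.assoc, reassoc_of% hw i, ho, hg]
        simp only [iR, iL, ← Spec.map_comp_assoc, ← CommRingCat.ofHom_comp]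
        congr 3
        rw [← RingHom.comp_assoc]
        exact RingHom.ext fun a => by
          show (1 : Γ(G.left, T)) ⊗ₜ[Γ(S, U)] φ i (algebraMap _ _ a) = algebraMap Γ(S, U) Γ(G.left, T) a ⊗ₜ 1
          rw [(φ i).commutes, Algebra.algebraMap_eq_smul_one, Algebra.algebraMap_eq_smul_one, TensorProduct.smul_tmul])
      obtain ⟨x', hx'⟩ := hfac i.1 S'' s x
      have hpt : Spec.map (CommRingCat.ofHom φA.toRingHom) ≫ ρA ≫ m = (lift (x ≫ j i.1) s).left := by
        apply pullback.hom_ext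
        · rw [show (lift (x ≫ j i.1) s).left ≫ pullback.fst H.hom G.hom = (x ≫ j i.1).left from
            congrArg Over.Hom.left (lift_fst (x ≫ j i.1) s)]
          simp only [m, Category.assoc, pullback.map, pullback.lift_fst, Category.comp_id]
          show _ = (iR ≫ w i) ≫ (j i.1).left
          rw [hρA1, Category.assoc, hw i]
          simp only [iR, ← Spec.map_comp_assoc, ← CommRingCat.ofHom_comp]
          congr 3
        · rw [show (lift (x ≫ j i.1) s).left ≫ pullback.snd H.hom G.hom = s.left from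
            congrArg Over.Hom.left (lift_snd (x ≫ j i.1) s)]
          simp only [m, Category.assoc, pullback.map, pullback.lift_snd]
          rw [reassoc_of% hρA2]
          show _ = iL ≫ o'
          simp only [iL, ← Spec.map_comp_assoc, ← CommRingCat.ofHom_comp]
          congr 3
          exact φA.comp_algebraMap
      refine ⟨pullback.lift x'.left (Spec.map (CommRingCat.ofHom φA.toRingHom)) ?_, pullback.lift_snd _ _ _⟩
      rw [Category.assoc, reassoc_of% hpt]
      exact congrArg Over.Hom.left hx'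
  choose R ρ hρ hpρ ψ hψ using key
  haveI : Mono y.left := inferInstance
  exact EssFree.exists_lift_of_cover (j := y.left) Φ.left
    (Scheme.Cover.mkOfCovers P (fun p => Spec (R p)) ρ (fun p => ⟨p, hpρ p⟩) hρ) fun p => ⟨ψ p, hψ p⟩

/-- the ideal sheaves of a directed family on a Noetherian scheme have a largest member -/
theorem exists_greatest_ideal {X : Scheme.{u}} [AlgebraicGeometry.IsNoetherian X] {κ : Type*} [Nonempty κ]
    (I : κ → X.IdealSheafData) (hI : Directed (· ≤ ·) I) : ∃ c, ∀ n, I n ≤ I c := by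
  classical
  obtain ⟨s, hs⟩ := isCompact_univ.elim_finite_subcover (fun U : X.affineOpens => (U.1 : Set X))
    (fun U => U.1.isOpen) (fun x _ => by
      obtain ⟨_, ⟨U, hU, rfl⟩, hxU, -⟩ := X.isBasis_affineOpens.exists_subset_of_mem_open (Set.mem_univ x) isOpen_univ
      exact Set.mem_iUnion.mpr ⟨⟨U, hU⟩, hxU⟩)
  have hmax : ∀ U : s, ∃ c, ∀ n, (I n).ideal U.1 ≤ (I c).ideal U.1 := fun U => by
    haveI : IsNoetherianRing Γ(X, U.1.1) := IsLocallyNoetherian.component_noetherian U.1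
    obtain ⟨_, ⟨c, rfl⟩, hc⟩ := set_has_maximal_iff_noetherian.mpr (inferInstanceAs (IsNoetherianRing Γ(X, U.1.1)))
      (Set.range fun n => (I n).ideal U.1) (Set.range_nonempty _)
    refine ⟨c, fun n => ?_⟩
    obtain ⟨d, hn, hcd⟩ := hI n c
    refine (hn U.1).trans ?_
    by_contra h
    exact hc _ ⟨d, rfl⟩ (lt_of_le_not_ge (hcd U.1) h)
  choose c hc using hmax
  obtain ⟨e, he⟩ := hI.finset_le (Finset.univ.image c)
  refine ⟨e, fun n => Scheme.IdealSheafData.le_of_iSup_eq_top (fun U : s => U.1) ?_ fun U =>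
    (hc U n).trans (he (c U) (Finset.mem_image_of_mem c (Finset.mem_univ U)) U.1)⟩
  refine eq_top_iff.mpr fun x _ => ?_
  obtain ⟨U, hU, hx⟩ := Set.mem_iUnion₂.mp (hs (Set.mem_univ x))
  exact TopologicalSpace.Opens.mem_iSup.mpr ⟨⟨U, hU⟩, hx⟩

variable [LocallyOfFiniteType H.hom] [IsLocallyNoetherian G.left] [∀ n, Flat (Z n).hom]

theorem exists_closed_factLocus (j : ∀ n, Z n ⟶ H) (hb : FibreDense H.hom fun n => (j n).left)
    (hfree : ∀ n, SGA3x.IsEssentiallyFree (Z n).hom) (Φ : H ⊗ G ⟶ W) (y : Y ⟶ W) [IsClosedImmersion y.left] :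
    (∃ (T : Over S) (t : T ⟶ G), IsClosedImmersion t.left ∧
      ∀ (S' : Over S) (g : S' ⟶ G), (∃ z : S' ⟶ T, z ≫ t = g) ↔
        ∀ (S'' : Over S) (s : S'' ⟶ S') (x : S'' ⟶ H), ∃ x' : S'' ⟶ Y, x' ≫ y = lift x (s ≫ g) ≫ Φ) ∧
    (AlgebraicGeometry.IsNoetherian G.left → Nonempty ι →
      (∀ a b, ∃ c, (∃ r, r ≫ j c = j a) ∧ ∃ r, r ≫ j c = j b) →
      ∃ n, ∀ (S' : Over S) (g : S' ⟶ G),
        (∀ (S'' : Over S) (s : S'' ⟶ S') (x : S'' ⟶ H), ∃ x' : S'' ⟶ Y, x' ≫ y = lift x (s ≫ g) ≫ Φ) ↔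
        ∀ (S'' : Over S) (s : S'' ⟶ S') (x : S'' ⟶ Z n), ∃ x' : S'' ⟶ Y, x' ≫ y = lift (x ≫ j n) (s ≫ g) ≫ Φ) := by
  have hn : ∀ n, ∃ (T : Over S) (t : T ⟶ G), IsClosedImmersion t.left ∧
      ∀ (S' : Over S) (g : S' ⟶ G), (∃ z : S' ⟶ T, z ≫ t = g) ↔
        ∀ (S'' : Over S) (s : S'' ⟶ S') (x : S'' ⟶ Z n),
          ∃ x' : S'' ⟶ Y, x' ≫ y = lift (x ≫ j n) (s ≫ g) ≫ Φ := fun n => by
    obtain ⟨T, t, ht, -, hT⟩ := EssFree.exists_closed_factLocus (G := G) (hfree n) ((j n ▷ G) ≫ Φ) y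
    refine ⟨T, t, ht, fun S' g => (hT S' g).trans ?_⟩
    simp only [lift_whiskerRight_assoc]
  choose Tn tn htn hTn using hn
  have hker : ∀ n (S' : Over S) (g : S' ⟶ G), (∃ z : S' ⟶ Tn n, z ≫ tn n = g) ↔ (tn n).left.ker ≤ g.left.ker := by
    intro n S' g
    haveI := htn n
    constructor
    · rintro ⟨z, rfl⟩
      exact Scheme.Hom.le_ker_comp _ _
    · intro h
      exact ⟨Over.homMk (IsClosedImmersion.lift _ _ h) (by rw [← Over.w (tn n), IsClosedImmersion.lift_fac_assoc, Over.w g]),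
        Over.OverMorphism.ext (IsClosedImmersion.lift_fac _ _ _)⟩
  let I := ⨆ n, (tn n).left.ker
  let T : Over S := Over.mk (I.subschemeι ≫ G.hom)
  let t : T ⟶ G := Over.homMk I.subschemeι
  haveI : IsClosedImmersion t.left := inferInstanceAs (IsClosedImmersion I.subschemeι)
  haveI : IsLocallyNoetherian T.left := LocallyOfFiniteType.isLocallyNoetherian t.left
  have hT : ∀ (S' : Over S) (g : S' ⟶ G), (∃ z : S' ⟶ T, z ≫ t = g) ↔ I ≤ g.left.ker := by
    intro S' g
    constructor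
    · rintro ⟨z, rfl⟩
      refine le_trans ?_ (Scheme.Hom.le_ker_comp z.left t.left)
      show I ≤ I.subschemeι.ker
      rw [Scheme.IdealSheafData.ker_subschemeι]
    · intro h
      have h' : t.left.ker ≤ g.left.ker := (show I.subschemeι.ker = I from I.ker_subschemeι).le.trans h
      exact ⟨Over.homMk (IsClosedImmersion.lift _ _ h') (by rw [← Over.w t, IsClosedImmersion.lift_fac_assoc, Over.w g]),
        Over.OverMorphism.ext (IsClosedImmersion.lift_fac _ _ _)⟩
  have hTl : ∀ n, ∀ (S'' : Over S) (s : S'' ⟶ T) (x : S'' ⟶ Z n),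
      ∃ x' : S'' ⟶ Y, x' ≫ y = lift (x ≫ j n) (s ≫ t) ≫ Φ := fun n =>
    (hTn n T t).mp ((hker n T t).mpr ((le_iSup (fun n => (tn n).left.ker) n).trans ((hT T t).mp ⟨𝟙 T, Category.id_comp t⟩)))
  obtain ⟨l, hl⟩ := factor_of_family (G := T) j hb (H ◁ t ≫ Φ) y fun n S'' s x => by
    simp only [lift_whiskerLeft_assoc]
    exact hTl n S'' s x
  have hmain : ∀ (S' : Over S) (g : S' ⟶ G), (∃ z : S' ⟶ T, z ≫ t = g) ↔
      ∀ (S'' : Over S) (s : S'' ⟶ S') (x : S'' ⟶ H), ∃ x' : S'' ⟶ Y, x' ≫ y = lift x (s ≫ g) ≫ Φ := by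
    intro S' g
    constructor
    · rintro ⟨z, rfl⟩ S'' s x
      refine ⟨lift x (s ≫ z) ≫ l, ?_⟩
      rw [Category.assoc, hl, lift_whiskerLeft_assoc, Category.assoc]
    · exact fun h => (hT S' g).mpr (iSup_le fun n => (hker n S' g).mp ((hTn n S' g).mpr fun S'' s x => h S'' s _))
  refine ⟨⟨T, t, inferInstance, hmain⟩, fun hN hne hdir => ?_⟩
  have hd : Directed (· ≤ ·) fun n => (tn n).left.ker := fun a b => by
    obtain ⟨c, ⟨r₁, hr₁⟩, r₂, hr₂⟩ := hdir a b
    have hle : ∀ d, ∀ r : Z d ⟶ Z c, r ≫ j c = j d → (tn d).left.ker ≤ (tn c).left.ker := fun d r hr =>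
      (hker d _ (tn c)).mp ((hTn d _ (tn c)).mpr fun S'' s x => by
        rw [← hr, ← Category.assoc x]
        exact (hTn c _ (tn c)).mp ⟨𝟙 _, Category.id_comp _⟩ S'' s _)
    exact ⟨c, hle a r₁ hr₁, hle b r₂ hr₂⟩
  obtain ⟨c, hc⟩ := exists_greatest_ideal _ hd
  refine ⟨c, fun S' g => ⟨fun h S'' s x => h S'' s _, fun h => (hmain S' g).mp ((hT S' g).mpr
    (iSup_le fun n => (hc n).trans ((hker c S' g).mp ((hTn c S' g).mpr h))))⟩⟩

end Groth.Agent.DenseFamily
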