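import Groth.Agent.DenseFamily.Main

/-!
The family of torsion kernels of a commutative group.
-/

universe u

open CategoryTheory Limits MonoidalCategory CartesianMonoidalCategory MonObj GrpObj AlgebraicGeometry

set_option backward.isDefEq.respectTransparency false
set_option linter.style.haveILetI false

noncomputable section

namespace Groth.Agent.DenseFamily

variable {S : Scheme.{u}} (H : Over S) [GrpObj H]

/-- the kernel of the `n`-th power map -/
def tors (n : ℕ) : Over S :=
  Over.mk ((pullback.snd η[H].left (𝟙 H ^ n : H ⟶ H).left) ≫ H.hom)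

/-- its inclusion -/
def torsι (n : ℕ) : tors H n ⟶ H := Over.homMk (pullback.snd η[H].left (𝟙 H ^ n : H ⟶ H).left) rfl

variable {H}

theorem exists_lift_tors {n : ℕ} {X : Over S} (h : X ⟶ H) : (∃ r, r ≫ torsι H n = h) ↔ h ^ n = 1 := by
  have hpow : h ^ n = h ≫ (𝟙 H ^ n : H ⟶ H) := by rw [MonObj.comp_pow, Category.comp_id]
  constructor
  · rintro ⟨r, rfl⟩
    rw [hpow, Hom.one_def]
    refine Over.OverMorphism.ext ?_
    have h1 : (r.left ≫ pullback.fst η[H].left (𝟙 H ^ n : H ⟶ H).left) = (toUnit X).left := by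
      have := Over.w r
      refine Eq.trans ?_ (Over.w (toUnit X)).symm
      refine Eq.trans ?_ this
      show r.left ≫ pullback.fst _ _ = r.left ≫ pullback.snd _ _ ≫ H.hom
      congr 1
      rw [← Over.w (𝟙 H ^ n : H ⟶ H), ← pullback.condition_assoc, Over.w η[H]]
      exact (Category.comp_id _).symm
    show (r.left ≫ pullback.snd _ _) ≫ (𝟙 H ^ n : H ⟶ H).left = (toUnit X).left ≫ η[H].left
    rw [← h1, Category.assoc, ← pullback.condition, Category.assoc]
  · intro hh
    have w : (toUnit X).left ≫ η[H].left = h.left ≫ (𝟙 H ^ n : H ⟶ H).left := by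
      rw [← Over.comp_left, ← Over.comp_left, ← Hom.one_def, ← hpow, hh]
    refine ⟨Over.homMk (pullback.lift (toUnit X).left h.left w) ?_, Over.OverMorphism.ext (pullback.lift_snd _ _ _)⟩
    show _ ≫ pullback.snd _ _ ≫ H.hom = X.hom
    rw [pullback.lift_snd_assoc, Over.w h]

variable (H)

theorem directed_tors (E : Set ℕ) (hEmul : ∀ m ∈ E, ∀ n ∈ E, m * n ∈ E) (a b : E) :
    ∃ c : E, (∃ r, r ≫ torsι H c = torsι H a) ∧ ∃ r, r ≫ torsι H c = torsι H b := by
  refine ⟨⟨a * b, hEmul a a.2 b b.2⟩, (exists_lift_tors _).mpr ?_, (exists_lift_tors _).mpr ?_⟩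
  · rw [pow_mul, (exists_lift_tors _).mp ⟨𝟙 _, Category.id_comp _⟩, one_pow]
  · show _ ^ ((a : ℕ) * (b : ℕ)) = 1
    rw [mul_comm (a : ℕ), pow_mul, (exists_lift_tors _).mp ⟨𝟙 _, Category.id_comp _⟩, one_pow]

theorem isEssentiallyFree_tors [IsLocallyNoetherian S] {n : ℕ} (h : IsFinite (tors H n).hom ∧ Flat (tors H n).hom) :
    SGA3x.IsEssentiallyFree (tors H n).hom := by
  haveI := h.1
  haveI := h.2
  haveI : LocallyOfFinitePresentation (tors H n).hom :=
    LocallyOfFinitePresentation.iff_locallyOfFiniteType.mpr inferInstance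
  exact EssFree.isEssentiallyFree_of_isFinite _

/-- landing in a closed subscheme after base change, in terms of points -/
theorem forall_points_iff {H Z : Over S} (j : Z ⟶ H) {Y : Scheme.{u}} (y : Y ⟶ H.left) {S' : Scheme.{u}} (g : S' ⟶ S) :
    (∀ (S'' : Over S) (s : S'' ⟶ Over.mk g) (x : S'' ⟶ Z), ∃ x' : S'' ⟶ Over.mk (y ≫ H.hom),
      x' ≫ Over.homMk y = lift (x ≫ j) (s ≫ toUnit (Over.mk g)) ≫ fst H (𝟙_ (Over S))) ↔
    ∃ l : pullback Z.hom g ⟶ Y, l ≫ y = pullback.fst Z.hom g ≫ j.left := by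
  constructor
  · intro h
    obtain ⟨x', hx'⟩ := h (Over.mk (pullback.snd Z.hom g ≫ g)) (Over.homMk (pullback.snd Z.hom g) rfl)
      (Over.homMk (pullback.fst Z.hom g) pullback.condition)
    refine ⟨x'.left, ?_⟩
    rw [lift_fst] at hx'
    exact congrArg Over.Hom.left hx'
  · rintro ⟨l, hl⟩ S'' s x
    rw [lift_fst]
    have w : x.left ≫ Z.hom = s.left ≫ g := by rw [Over.w x]; exact (Over.w s).symm
    have h1 : (pullback.lift x.left s.left w ≫ l) ≫ y = x.left ≫ j.left := by
      rw [Category.assoc, hl, pullback.lift_fst_assoc]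
    refine ⟨Over.homMk (pullback.lift x.left s.left w ≫ l) ?_, Over.OverMorphism.ext h1⟩
    show (pullback.lift x.left s.left w ≫ l) ≫ y ≫ H.hom = S''.hom
    rw [← Category.assoc, h1, Category.assoc, Over.w j, Over.w x]

end Groth.Agent.DenseFamily
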